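import Mathlib
import Cfsg.Prelude.Def_Solvable
import Cfsg.Agent.Lib.Helper21.GAG39Defs

/-! # S4839 piece G39-HALF (helper21): if `a` inverts `s` modulo `N`, `s` has odd order modulo `N`
and acts without fixed points on the abelian `N`, then `|C_N(a)|² ≤ |N|`. -/

set_option autoImplicit false
set_option linter.unusedSectionVars false
set_option linter.unusedVariables false

namespace Cfsg.Agent.Helper21.GAG39

open Cfsg
open scoped Pointwise

variable {G : Type*} [Group G] [Finite G] {p : ℕ} [Fact p.Prime] (N : Subgroup G) [N.Normal]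

/-- PIECE G39-HALF [L0]. -/
theorem card_fix_sq_le (hcomm : ∀ a ∈ N, ∀ b ∈ N, a * b = b * a) (a s : G) (r : ℕ) (hr : Odd r)
    (hinv : a * s * a⁻¹ * s ∈ N) (hsr : s ^ r ∈ N)
    (hs : ∀ v ∈ N, s * v * s⁻¹ = v → v = 1) : Nat.card ↥(fixN N a) ^ 2 ≤ Nat.card N := by
  classical
  set a' := s⁻¹ * a * s with ha'
  have hnorm : ∀ (g v : G), v ∈ N → g * v * g⁻¹ ∈ N := fun g v hv => ‹N.Normal›.conj_mem v hv g
  -- injection `C_N(a) → C_N(a')`
  have hAB : Nat.card ↥(fixN N a) ≤ Nat.card ↥(fixN N a') := by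
    refine Nat.card_le_card_of_injective
      (fun v : ↥(fixN N a) => (⟨s⁻¹ * (v : G) * s, ?_⟩ : ↥(fixN N a'))) ?_
    · obtain ⟨hvN, hva⟩ := mem_fixN.mp v.2
      rw [mem_fixN]
      refine ⟨?_, ?_⟩
      · have := hnorm s⁻¹ v hvN
        rwa [inv_inv] at this
      · rw [ha']
        calc s⁻¹ * a * s * (s⁻¹ * ↑v * s) = s⁻¹ * (a * ↑v) * s := by group
          _ = s⁻¹ * (↑v * a) * s := by rw [hva]
          _ = s⁻¹ * ↑v * s * (s⁻¹ * a * s) := by group
    · intro v w hvw
      have h := congrArg Subtype.val hvw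
      simp only at h
      have h2 := mul_right_cancel h
      exact Subtype.ext (mul_left_cancel h2)
  -- the two fixed point groups meet trivially
  have hdisj : Disjoint (fixN N a) (fixN N a') := by
    rw [Subgroup.disjoint_def]
    intro v hva hva'
    obtain ⟨hvN, h1⟩ := mem_fixN.mp hva
    obtain ⟨_, h2⟩ := mem_fixN.mp hva'
    apply hs v hvN
    have c1 : Commute v a := h1.symm
    have c2 : Commute v a' := h2.symm
    have hm' : s * a⁻¹ * s * a ∈ N := by
      have := hnorm a⁻¹ _ hinv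
      rw [inv_inv] at this
      have e : a⁻¹ * (a * s * a⁻¹ * s) * a = s * a⁻¹ * s * a := by group
      rwa [e] at this
    have c3 : Commute v (s * a⁻¹ * s * a) := hcomm _ hvN _ hm'
    have c4 : Commute v (s * s) := by
      have e : s * s = (s * a⁻¹ * s * a) * (a⁻¹ * a') := by rw [ha']; group
      rw [e]
      exact c3.mul_right (c1.inv_right.mul_right c2)
    obtain ⟨k, hk⟩ := hr
    have e : s ^ r = (s * s) ^ k * s := by rw [hk, pow_succ, pow_mul, pow_two]
    have c5 : Commute v ((s * s) ^ k * s) := by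
      rw [← e]; exact hcomm _ hvN _ hsr
    have c6 : Commute v s := by
      have h := ((c4.pow_right k).inv_right).mul_right c5
      rwa [inv_mul_cancel_left] at h
    rw [← c6.eq, mul_inv_cancel_right]
  have hinj := Subgroup.mul_injective_of_disjoint hdisj
  have hprod : Nat.card ↥(fixN N a) * Nat.card ↥(fixN N a') ≤ Nat.card N := by
    rw [← Nat.card_prod]
    refine Nat.card_le_card_of_injective
      (fun g : ↥(fixN N a) × ↥(fixN N a') => (⟨(g.1 : G) * (g.2 : G), ?_⟩ : N)) ?_
    · exact N.mul_mem (mem_fixN.mp g.1.2).1 (mem_fixN.mp g.2.2).1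
    · intro g g' h
      apply hinj
      exact congrArg Subtype.val h
  calc Nat.card ↥(fixN N a) ^ 2 = Nat.card ↥(fixN N a) * Nat.card ↥(fixN N a) := pow_two _
    _ ≤ Nat.card ↥(fixN N a) * Nat.card ↥(fixN N a') := Nat.mul_le_mul_left _ hAB
    _ ≤ Nat.card N := hprod

end Cfsg.Agent.Helper21.GAG39
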