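import Mathlib
import Cfsg.Prelude.Def_Solvable
import Cfsg.Agent.Lib.Helper21.GAG39Defs

/-! # S4839 piece G39-INV (helper21): an involution without fixed points on the abelian `N` inverts it. -/

set_option autoImplicit false
set_option linter.unusedSectionVars false
set_option linter.unusedVariables false

namespace Cfsg.Agent.Helper21.GAG39

open Cfsg
open scoped Pointwise

variable {G : Type*} [Group G] [Finite G] {p : ℕ} [Fact p.Prime] (N : Subgroup G) [N.Normal]

/-- PIECE G39-INV [L0]. -/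
theorem inverts (hcomm : ∀ a ∈ N, ∀ b ∈ N, a * b = b * a) (t : G) (ht : t * t = 1)
    (hfix : ∀ n ∈ N, t * n * t⁻¹ = n → n = 1) : ∀ n ∈ N, t * n * t⁻¹ = n⁻¹ := by
  intro n hn
  have hc : t * n * t⁻¹ ∈ N := ‹N.Normal›.conj_mem n hn t
  have htinv : t⁻¹ = t := inv_eq_of_mul_eq_one_left ht
  set m := n * (t * n * t⁻¹) with hm
  have hmN : m ∈ N := N.mul_mem hn hc
  have hmfix : t * m * t⁻¹ = m := by
    have h1 : t * m * t⁻¹ = (t * n * t⁻¹) * (t * (t * n * t⁻¹) * t⁻¹) := by
      rw [hm]; group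
    have h2 : t * (t * n * t⁻¹) * t⁻¹ = n := by
      rw [htinv]
      calc t * (t * n * t) * t = (t * t) * n * (t * t) := by group
        _ = n := by rw [ht, one_mul, mul_one]
    rw [h1, h2, hm]
    exact hcomm _ hc _ hn
  have hm1 := hfix m hmN hmfix
  rw [hm] at hm1
  exact (eq_inv_of_mul_eq_one_right hm1)
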