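import Mathlib
import Cfsg.Prelude.Def_Solvable
import Cfsg.Agent.Lib.Helper21.GAG39Defs

/-! # S4839 piece G39-LIFT (helper21): if `N` is elementary abelian of exponent 2, `a² ∈ N`,
`|C_N(a)|² ≤ |N|` and `a` does not centralise `N`, then the coset `Na` contains both an element of
order at most 2 and an element which is not. -/

set_option autoImplicit false
set_option linter.unusedSectionVars false
set_option linter.unusedVariables false

namespace Cfsg.Agent.Helper21.GAG39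

open Cfsg
open scoped Pointwise

variable {G : Type*} [Group G] [Finite G] {p : ℕ} [Fact p.Prime] (N : Subgroup G) [N.Normal]

/-- PIECE G39-LIFT [L0]. -/
theorem exists_lifts (hcomm : ∀ a ∈ N, ∀ b ∈ N, a * b = b * a) (hexp : ∀ v ∈ N, v * v = 1) (a : G)
    (ha2 : a * a ∈ N) (hhalf : Nat.card ↥(fixN N a) ^ 2 ≤ Nat.card N)
    (hnc : ∃ v ∈ N, a * v * a⁻¹ ≠ v) :
    ∃ v₁ ∈ N, ∃ v₂ ∈ N, (v₁ * a) * (v₁ * a) = 1 ∧ (v₂ * a) * (v₂ * a) ≠ 1 := by
  classical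
  have hnorm : ∀ (g v : G), v ∈ N → g * v * g⁻¹ ∈ N := fun g v hv => ‹N.Normal›.conj_mem v hv g
  have hinvself : ∀ v ∈ N, v⁻¹ = v := fun v hv => inv_eq_of_mul_eq_one_left (hexp v hv)
  -- the commutator map
  let κ : ↥N →* ↥N := MonoidHom.mk'
    (fun v => ⟨a * (v : G) * a⁻¹ * (v : G)⁻¹, N.mul_mem (hnorm a v v.2) (N.inv_mem v.2)⟩)
    (by
      intro v w
      apply Subtype.ext
      have hyw : a * (w : G) * a⁻¹ * (w : G)⁻¹ ∈ N := N.mul_mem (hnorm a w w.2) (N.inv_mem w.2)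
      have hvinv : (v : G)⁻¹ ∈ N := N.inv_mem v.2
      show a * ((v : G) * (w : G)) * a⁻¹ * ((v : G) * (w : G))⁻¹ =
        (a * (v : G) * a⁻¹ * (v : G)⁻¹) * (a * (w : G) * a⁻¹ * (w : G)⁻¹)
      calc a * ((v : G) * (w : G)) * a⁻¹ * ((v : G) * (w : G))⁻¹
          = (a * (v : G) * a⁻¹) * ((a * (w : G) * a⁻¹ * (w : G)⁻¹) * (v : G)⁻¹) := by group
        _ = (a * (v : G) * a⁻¹) * ((v : G)⁻¹ * (a * (w : G) * a⁻¹ * (w : G)⁻¹)) := by
            rw [hcomm _ hyw _ hvinv]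
        _ = (a * (v : G) * a⁻¹ * (v : G)⁻¹) * (a * (w : G) * a⁻¹ * (w : G)⁻¹) := by group)
  have hκ : ∀ v : ↥N, ((κ v : ↥N) : G) = a * (v : G) * a⁻¹ * (v : G)⁻¹ := fun v => rfl
  have hFN : fixN N a ≤ N := fun v hv => (mem_fixN.mp hv).1
  -- kernel
  have hker : κ.ker = (fixN N a).subgroupOf N := by
    ext v
    rw [MonoidHom.mem_ker, Subgroup.mem_subgroupOf, mem_fixN]
    constructor
    · intro h
      have h1 : a * (v : G) * a⁻¹ * (v : G)⁻¹ = 1 := by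
        rw [← hκ v, h]; rfl
      refine ⟨v.2, ?_⟩
      have h2 : a * (v : G) * a⁻¹ = (v : G) := mul_inv_eq_one.mp h1
      calc a * (v : G) = a * (v : G) * a⁻¹ * a := by group
        _ = (v : G) * a := by rw [h2]
    · rintro ⟨_, h⟩
      apply Subtype.ext
      rw [hκ v, h]
      show (v : G) * a * a⁻¹ * (v : G)⁻¹ = 1
      group
  -- range
  have hrange : κ.range ≤ (fixN N a).subgroupOf N := by
    rintro w ⟨v, rfl⟩
    rw [Subgroup.mem_subgroupOf, mem_fixN]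
    refine ⟨(κ v).2, ?_⟩
    rw [hκ v]
    have hx : a * (v : G) * a⁻¹ ∈ N := hnorm a v v.2
    -- `a² v a⁻² = v`
    have h1 : a * a * (v : G) = (v : G) * (a * a) := hcomm _ ha2 _ v.2
    have h2 : a * (a * (v : G) * a⁻¹) * a⁻¹ = (v : G) := by
      calc a * (a * (v : G) * a⁻¹) * a⁻¹ = (a * a * (v : G)) * a⁻¹ * a⁻¹ := by group
        _ = (v : G) * (a * a) * a⁻¹ * a⁻¹ := by rw [h1]
        _ = (v : G) := by group
    have h3 : a * (a * (v : G) * a⁻¹ * (v : G)⁻¹) * a⁻¹ = (v : G) * (a * (v : G) * a⁻¹)⁻¹ := by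
      calc a * (a * (v : G) * a⁻¹ * (v : G)⁻¹) * a⁻¹
          = (a * (a * (v : G) * a⁻¹) * a⁻¹) * (a * (v : G) * a⁻¹)⁻¹ := by group
        _ = (v : G) * (a * (v : G) * a⁻¹)⁻¹ := by rw [h2]
    have h4 : (v : G) * (a * (v : G) * a⁻¹)⁻¹ = a * (v : G) * a⁻¹ * (v : G)⁻¹ := by
      rw [hinvself _ hx, hinvself _ v.2]
      exact hcomm _ v.2 _ hx
    calc a * (a * (v : G) * a⁻¹ * (v : G)⁻¹)
        = (a * (a * (v : G) * a⁻¹ * (v : G)⁻¹) * a⁻¹) * a := by group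
      _ = (a * (v : G) * a⁻¹ * (v : G)⁻¹) * a := by rw [h3, h4]
  -- counting
  have hcardF : Nat.card ↥((fixN N a).subgroupOf N) = Nat.card ↥(fixN N a) :=
    Nat.card_congr (Subgroup.subgroupOfEquivOfLe hFN).toEquiv
  have hcount : Nat.card ↥κ.ker * Nat.card ↥κ.range = Nat.card ↥N := by
    rw [← Subgroup.index_ker]
    exact Subgroup.card_mul_index κ.ker
  have hrange_eq : κ.range = (fixN N a).subgroupOf N := by
    apply Subgroup.eq_of_le_of_card_ge hrange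
    rw [hcardF]
    rw [hker, hcardF] at hcount
    have hpos : 0 < Nat.card ↥(fixN N a) := Nat.card_pos
    have h5 : Nat.card ↥(fixN N a) * Nat.card ↥(fixN N a) ≤
        Nat.card ↥(fixN N a) * Nat.card ↥κ.range := by
      rw [hcount, ← pow_two]; exact hhalf
    exact Nat.le_of_mul_le_mul_left h5 hpos
  -- `a²` is in the range
  have ha2F : (⟨a * a, ha2⟩ : ↥N) ∈ κ.range := by
    rw [hrange_eq, Subgroup.mem_subgroupOf, mem_fixN]
    refine ⟨ha2, ?_⟩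
    show a * (a * a) = a * a * a
    group
  obtain ⟨v₁, hv₁⟩ := ha2F
  have hv₁' : a * (v₁ : G) * a⁻¹ * (v₁ : G)⁻¹ = a * a := by
    rw [← hκ v₁, hv₁]
  refine ⟨(v₁ : G), v₁.2, ?_⟩
  have hfirst : ((v₁ : G) * a) * ((v₁ : G) * a) = 1 := by
    have h6 : a * (v₁ : G) * a⁻¹ = a * a * (v₁ : G) := by
      calc a * (v₁ : G) * a⁻¹ = (a * (v₁ : G) * a⁻¹ * (v₁ : G)⁻¹) * (v₁ : G) := by group
        _ = a * a * (v₁ : G) := by rw [hv₁']
    have h7 : (a * a) * (v₁ : G) ∈ N := N.mul_mem ha2 v₁.2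
    calc ((v₁ : G) * a) * ((v₁ : G) * a) = (v₁ : G) * (a * (v₁ : G) * a⁻¹) * (a * a) := by group
      _ = (v₁ : G) * (a * a * (v₁ : G)) * (a * a) := by rw [h6]
      _ = ((v₁ : G) * (a * a)) * ((v₁ : G) * (a * a)) := by group
      _ = 1 := hexp _ (N.mul_mem v₁.2 ha2)
  by_cases haa : a * a = 1
  · obtain ⟨v, hvN, hv⟩ := hnc
    refine ⟨v, hvN, hfirst, ?_⟩
    intro h
    apply hv
    have h8 : (v * a) * (v * a) = v * (a * v * a⁻¹) * (a * a) := by group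
    rw [h8, haa, mul_one] at h
    have h9 : a * v * a⁻¹ = v⁻¹ := (eq_inv_of_mul_eq_one_right h)
    rw [h9, hinvself v hvN]
  · refine ⟨1, N.one_mem, hfirst, ?_⟩
    rw [one_mul]
    exact haa

end Cfsg.Agent.Helper21.GAG39
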